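import Groth.Agent.AlgStLib.Rows3
import Groth.Agent.AlgSpLib.MorPack
import Groth.Agent.AlgSpLib.AffineFpqc
import Groth.Agent.AlgSpRegLib.ImmFpqc

/-!
# Affine diagonal from an affine atlas
-/

set_option autoImplicit false
set_option linter.all false
set_option backward.isDefEq.respectTransparency false
set_option backward.isDefEq.respectTransparency.types false

universe u

open CategoryTheory CategoryTheory.Limits AlgebraicGeometry Opposite AlgSp FibCat FibLib AlgSpLib AlgStLib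

namespace QuotTransLib

variable {S : Scheme.{u}}

theorem affine_cancel {X Y Z : Sp S} (a : X ⟶ Y) (b : Y ⟶ Z) (h : IsAffineMor (a ≫ b))
    (hb : RepWith @IsAffineHom (pullback.diagonal b)) : IsAffineMor a := by
  haveI : (RepWith (S := S) @IsAffineHom).HasOfPostcompProperty (RepWith (S := S) @IsAffineHom).diagonal :=
    MorphismProperty.hasOfPostcompProperty_iff_le_diagonal.mpr le_rfl
  exact AlgSpLib.isAffineMor_iff.2 (MorphismProperty.of_postcomp (RepWith (S := S) @IsAffineHom) a b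
    (W' := (RepWith (S := S) @IsAffineHom).diagonal) hb (AlgSpLib.isAffineMor_iff.1 h))

theorem diag_prodFst (P : MorphismProperty Scheme.{u}) [P.IsStableUnderBaseChange] {T X : Over S}
    (hX : P (pullback.diagonal X.hom)) :
    RepWith P (pullback.diagonal ((yon S).map (prod.fst : T ⨯ X ⟶ T))) := by
  refine (repWith_diagonal_yon_map_iff P _).2 ?_
  change MorphismProperty.diagonal P (prod.fst : T ⨯ X ⟶ T).left
  rw [← Over.prodLeftIsoPullback_hom_fst]
  refine (MorphismProperty.cancel_left_of_respectsIso (MorphismProperty.diagonal P) _ _).2 ?_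
  exact MorphismProperty.pullback_fst _ _ (show MorphismProperty.diagonal P X.hom from hX)

/-- The structure functor of a scheme is represented by the products. -/
theorem along_prodFst {X : Over S} (p : overCat X ⥤ᵇ selfOver (Over S)) {T : Over S}
    (u : AlgSt.ofSch T ⥤ᵇ selfOver (Over S)) : Along u p ((yon S).map (prod.fst : T ⨯ X ⟶ T)).hom := by
  obtain ⟨γ⟩ := nonempty_iso_selfOver (BasedFunctor.comp (toSelf (overCat T)) (BasedFunctor.id _))
    (BasedFunctor.comp (AlgSt.ofOverCat T) u)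
  obtain ⟨δ⟩ := nonempty_iso_selfOver (BasedFunctor.comp (toSelf (overCat X)) (BasedFunctor.id _))
    (BasedFunctor.comp (BasedFunctor.id (overCat X)) p)
  haveI := full_id (selfOver (Over S))
  haveI := faithful_id (selfOver (Over S))
  let E := BasedFunctor.comp (AlgSt.toOverCat (T ⨯ X)) (BasedFunctor.comp (prodCmp T X)
    (fpMap (a := AlgSt.ofOverCat T) (b := BasedFunctor.id (overCat X)) (c := BasedFunctor.id (selfOver (Over S)))
      (F := u) (G := p) (F' := toSelf (overCat T)) (G' := toSelf (overCat X)) γ.symm δ.symm))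
  have hE : IsEquivOver E := isEquivOver_comp (isEquivOver_toOverCat (T ⨯ X))
    (isEquivOver_comp (isEquivOver_prodCmp T X)
      (isEquivOver_fpMap _ _ (isEquivOver_ofOverCat T) (isEquivOver_id _)))
  exact ⟨E, hE, nonempty_iso_of_sec fun a => rfl⟩

theorem repByAlgSpWith_diagWith_toSelf (P : MorphismProperty Scheme.{u}) [P.IsStableUnderBaseChange] {X : Over S}
    (hX : P (pullback.diagonal X.hom)) {p : overCat X ⥤ᵇ selfOver (Over S)} :
    AlgSt.RepByAlgSpWith (fun A B b => RepWith P (pullback.diagonal b)) p :=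
  (repByAlgSpWith_iff _ _).mpr fun T u =>
    ⟨_, _, IsAlgSpace.yon_obj _, along_prodFst p u, diag_prodFst P hX⟩

variable {𝒳 : AlgSt.Cat S}

theorem repByAlgSpWith_affine_diag [IsFibGrpd 𝒳.p] (hΔ : AlgSt.RepByAlgSp1 (diag (toSelf 𝒳))) {X : Over S}
    (hX : IsAffineHom (pullback.diagonal X.hom)) (w : overCat X ⥤ᵇ 𝒳)
    (hw₁ : AlgSt.RepByAlgSpWith (LocP @Flat) w)
    (hw₂ : AlgSt.RepByAlgSpWith (LocP @LocallyOfFinitePresentation) w)
    (hw₃ : AlgSt.RepByAlgSpWith IsSurjectiveMor w) (hw : AlgSt.RepByAlgSpWith IsAffineMor w) :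
    AlgSt.RepByAlgSpWith IsAffineMor (diag (toSelf 𝒳)) := by
  haveI := FibLib.isFibGrpd_overCat X
  haveI := isFibGrpd_of_repByAlgSp (repByAlgSp_selfOver (S := S))
  haveI : IsFibGrpd (fp (toSelf 𝒳) (toSelf 𝒳)).p := isFibGrpd_fp
  let p := BasedFunctor.comp w (toSelf 𝒳)
  haveI : IsFibGrpd (fp p p).p := isFibGrpd_fp
  refine repByAlgSpWith_of_fppf_cover good_affine.bc
    (isLocalOnBase_fppf_of_fpqc (AlgSpLib.isLocalOnBase_fpqc_isAffineMor S)) hΔ
    (z := pairBoth w w (toSelf 𝒳) (toSelf 𝒳))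
    (repByAlgSpWith_pairBoth w w _ _ good_flat hw₁ hw₁) (repByAlgSpWith_pairBoth w w _ _ good_lfp hw₂ hw₂)
    (repByAlgSpWith_pairBoth w w _ _ good_surjective hw₃ hw₃) ?_
  have h1 : AlgSt.RepByAlgSpWith IsAffineMor (fpPush w w (toSelf 𝒳)) :=
    repByAlgSpWith_of_comp good_affine.bc (G := FibCat.fpFst p p)
      (repByAlgSpWith_fpFst IsAffineMor w hw)
      (repByAlgSpWith_fpFst _ p (repByAlgSpWith_diagWith_toSelf @IsAffineHom hX))
      fun _ _ _ _ _ _ a b hab hb => affine_cancel a b hab hb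
  exact (repByAlgSpWith_square_iff (f := FibCat.fpFst (fpPair w w (toSelf 𝒳)) (diag (toSelf 𝒳)))
    (f' := fpPush w w (toSelf 𝒳)) (b := BasedFunctor.id _) (isEquivOver_fpMagic w w (toSelf 𝒳))
    (isEquivOver_id _) (Iso.refl _) IsAffineMor).mpr h1

theorem qaff_cancel {A B C : Sp S} (a : A ⟶ B) (b : B ⟶ C) (h : IsQuasiAffineMor (a ≫ b))
    (hb : RepWith (@IsImmersion ⊓ @QuasiCompact : MorphismProperty Scheme.{u}) (pullback.diagonal b)) :
    IsQuasiAffineMor a := by
  intro Z hZ k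
  have sqg := pullback_lift_diagonal_isPullback a b
  have hg : RepWith (@IsImmersion ⊓ @QuasiCompact : MorphismProperty Scheme.{u})
      (pullback.lift (𝟙 A) a (by simp) : A ⟶ pullback (a ≫ b) b) := AlgSpLib.repWith_of_isPullback sqg hb
  have sq := IsPullback.of_hasPullback (a ≫ b) b
  obtain ⟨W, i, fst, sqW, hW⟩ := h hZ (k ≫ b)
  let l := sq.lift fst ((yon S).map i ≫ k) (by rw [sqW.w, Category.assoc])
  have sql : IsPullback l ((yon S).map i) (pullback.snd (a ≫ b) b) k :=
    IsPullback.of_right (by rw [sq.lift_fst]; exact sqW) (sq.lift_snd _ _ _) sq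
  have sqa := (hg.rep.isPullback l).paste_vert sql
  rw [← Functor.map_comp, pullback.lift_snd] at sqa
  obtain ⟨h1, h2⟩ := hg.property_snd l
  haveI : IsImmersion (hg.rep.snd l).left := h1
  haveI : QuasiCompact (hg.rep.snd l).left := h2
  haveI := hW
  haveI : CompactSpace (hg.rep.pullback l).left := QuasiCompact.compactSpace_of_compactSpace (hg.rep.snd l).left
  exact ⟨_, _, _, sqa, .of_isImmersion (hg.rep.snd l).left⟩

theorem qaff_of_affine {A B : Sp S} (a : A ⟶ B) (h : IsAffineMor a) : IsQuasiAffineMor a := fun Z hZ g =>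
  let ⟨W, i, fst, sq, hW⟩ := h hZ g
  ⟨W, i, fst, sq, haveI := hW; inferInstance⟩

theorem repByAlgSpWith_qaff_diag [IsFibGrpd 𝒳.p] (hΔ : AlgSt.RepByAlgSp1 (diag (toSelf 𝒳))) {X : Over S}
    [QuasiSeparated X.hom] (w : overCat X ⥤ᵇ 𝒳)
    (hw₁ : AlgSt.RepByAlgSpWith (LocP @Flat) w)
    (hw₂ : AlgSt.RepByAlgSpWith (LocP @LocallyOfFinitePresentation) w)
    (hw₃ : AlgSt.RepByAlgSpWith IsSurjectiveMor w) (hw : AlgSt.RepByAlgSpWith IsAffineMor w) :
    AlgSt.RepByAlgSpWith IsQuasiAffineMor (diag (toSelf 𝒳)) := by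
  haveI := FibLib.isFibGrpd_overCat X
  haveI := isFibGrpd_of_repByAlgSp (repByAlgSp_selfOver (S := S))
  haveI : IsFibGrpd (fp (toSelf 𝒳) (toSelf 𝒳)).p := isFibGrpd_fp
  let p := BasedFunctor.comp w (toSelf 𝒳)
  haveI : IsFibGrpd (fp p p).p := isFibGrpd_fp
  have hqs : (@IsImmersion ⊓ @QuasiCompact : MorphismProperty Scheme.{u}) (pullback.diagonal X.hom) :=
    ⟨inferInstance, inferInstance⟩
  have hbc : StableBC (IsQuasiAffineMor : MorphismProperty (Sp S)) := fun X₁ Y₁ X₂ Y₂ _ _ _ _ a b a' b' sq h Z hZ g => by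
    obtain ⟨W, i, fst, sqW, hW⟩ := h hZ (g ≫ b)
    exact ⟨W, i, sq.lift fst ((yon S).map i ≫ g) (by rw [sqW.w, Category.assoc]),
      IsPullback.of_right (by rw [sq.lift_fst]; exact sqW) (sq.lift_snd _ _ _) sq, hW⟩
  refine repByAlgSpWith_of_fppf_cover hbc
    (isLocalOnBase_fppf_of_fpqc (AlgSpRegLib.isLocalOnBase_fpqc_isQuasiAffineMor S)) hΔ
    (z := pairBoth w w (toSelf 𝒳) (toSelf 𝒳))
    (repByAlgSpWith_pairBoth w w _ _ good_flat hw₁ hw₁) (repByAlgSpWith_pairBoth w w _ _ good_lfp hw₂ hw₂)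
    (repByAlgSpWith_pairBoth w w _ _ good_surjective hw₃ hw₃) ?_
  have h1 : AlgSt.RepByAlgSpWith IsQuasiAffineMor (fpPush w w (toSelf 𝒳)) :=
    repByAlgSpWith_of_comp hbc (G := FibCat.fpFst p p)
      (repByAlgSpWith_mono (fun _ _ a _ _ h => qaff_of_affine a h) (repByAlgSpWith_fpFst IsAffineMor w hw))
      (repByAlgSpWith_fpFst _ p (repByAlgSpWith_diagWith_toSelf (@IsImmersion ⊓ @QuasiCompact) hqs))
      fun _ _ _ _ _ _ a b hab hb => qaff_cancel a b hab hb
  exact (repByAlgSpWith_square_iff (f := FibCat.fpFst (fpPair w w (toSelf 𝒳)) (diag (toSelf 𝒳)))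
    (f' := fpPush w w (toSelf 𝒳)) (b := BasedFunctor.id _) (isEquivOver_fpMagic w w (toSelf 𝒳))
    (isEquivOver_id _) (Iso.refl _) IsQuasiAffineMor).mpr h1

/-- Conversely. -/
theorem diagonal_affine_of_stack [IsFibGrpd 𝒳.p] {X : Over S} (w : overCat X ⥤ᵇ 𝒳)
    (hw : AlgSt.RepByAlgSpWith IsAffineMor w)
    (h : AlgSt.RepByAlgSpWith IsAffineMor (diag (toSelf 𝒳))) : IsAffineHom (pullback.diagonal X.hom) := by
  haveI := FibLib.isFibGrpd_overCat X
  have hsep : AlgSt.RepByAlgSpWith IsAffineMor (diag w) :=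
    repByAlgSpWith_diag_of_rep good_affine.bc hw fun K U a hK ha => by
      have hr := AlgSpLib.isAffineMor_iff.1 ha
      refine AlgSpLib.isAffineMor_iff.2 (AlgSpLib.repWith_mono
        (P := (@IsClosedImmersion : MorphismProperty Scheme.{u}))
        (fun _ _ g (hg : IsClosedImmersion g) => inferInstanceAs (IsAffineHom g)) ?_)
      refine (repWith_diagonal_iff (P := @IsClosedImmersion) (Q := @IsSeparated)
        (fun g => ⟨fun h => ⟨h⟩, fun h => h.1⟩) hr.rep).2 (AlgSpLib.repWith_mono ?_ hr)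
      exact fun _ _ g (hg : IsAffineHom g) => inferInstanceAs (IsSeparated g)
  have hp := repByAlgSpWith_diag_comp good_affine hsep h
  let T : Over S := Over.mk (𝟙 S)
  have := prop_diagonal_of_diag good_affine.bc (schTest_of_fpqc (AlgSpLib.isLocalOnBase_fpqc_isAffineMor S)) hp
    (IsAlgSpace.yon_obj (T ⨯ X)) (along_prodFst _ (toSelf (AlgSt.ofSch T)))
  have h' : MorphismProperty.diagonal (@IsAffineHom : MorphismProperty Scheme.{u}) (prod.fst : T ⨯ X ⟶ T).left :=
    (repWith_diagonal_yon_map_iff @IsAffineHom _).1 (AlgSpLib.isAffineMor_iff.1 this)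
  rw [← Over.prodLeftIsoPullback_hom_fst] at h'
  have h'' := (MorphismProperty.cancel_left_of_respectsIso
    (MorphismProperty.diagonal (@IsAffineHom : MorphismProperty Scheme.{u})) _ _).1 h'
  haveI : IsIso T.hom := inferInstanceAs (IsIso (𝟙 S))
  haveI : IsIso (pullback.snd T.hom X.hom) :=
    (IsPullback.of_hasPullback T.hom X.hom).isIso_snd_of_isIso
  have e : X.hom = inv (pullback.snd T.hom X.hom) ≫ pullback.fst T.hom X.hom := by
    rw [IsIso.eq_inv_comp, ← pullback.condition]; exact Category.comp_id _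
  change MorphismProperty.diagonal (@IsAffineHom : MorphismProperty Scheme.{u}) X.hom
  rw [e]
  exact (MorphismProperty.cancel_left_of_respectsIso
    (MorphismProperty.diagonal (@IsAffineHom : MorphismProperty Scheme.{u})) _ _).2 h''

end QuotTransLib
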