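import Groth.Agent.QuotTransLib.Etale
import Groth.Agent.QuotTransLib.AffDiag
import Groth.Agent.AlgStSetoidLib.Atlas

/-!
# The diagonal of a quotient stack under a flat affine group
-/

set_option autoImplicit false
set_option linter.all false
set_option backward.isDefEq.respectTransparency false
set_option backward.isDefEq.respectTransparency.types false

universe u

open CategoryTheory CategoryTheory.Limits AlgebraicGeometry AlgSp

namespace QuotTransLib

variable {S : Scheme.{u}} {G : Over S} [GrpObj G] [IsAffineHom G.hom] {X : Over S} (aX : AlgGrp.Action G X)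

theorem affine_qm_fppf : AlgSt.RepByAlgSpWith AlgSp.IsAffineMor (QuotStLib.qm Scheme.fppfPrecoverage aX) := by
  refine (AlgStLib.repByAlgSpWith_iff _ _).mpr fun T u =>
    ⟨_, _, AlgSp.IsAlgSpace.yon_obj _, QuotStLib.along_qm u, ?_⟩
  refine AlgSpLib.isAffineMor_iff.2 ((AlgSp.repWith_yon_map_iff _ _).2 ?_)
  haveI := affine_torsor aX (u.obj (QuotStLib.one (T := T)))
  haveI : IsIso ((eqToHom (QuotStLib.one_base u)).left) :=
    inferInstanceAs (IsIso ((Over.forget S).map (eqToHom (QuotStLib.one_base u))))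
  rw [Over.comp_left, MorphismProperty.cancel_right_of_respectsIso (@IsAffineHom)]
  assumption

variable [Flat G.hom] [LocallyOfFinitePresentation G.hom]

theorem flat_qm : AlgSt.RepByAlgSpWith (LocP @Flat) (QuotStLib.qm Scheme.fppfPrecoverage aX) :=
  QuotStLib.repByAlgSpWith_qm aX @Flat
    (AlgStLib.isLocalOnBase_fppf_of_fpqc (AlgSpLib.isLocalOnBase_fpqc_locP_of_descendsAlong S @Flat)) ‹_›

theorem lfp_qm : AlgSt.RepByAlgSpWith (LocP @LocallyOfFinitePresentation) (QuotStLib.qm Scheme.fppfPrecoverage aX) :=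
  QuotStLib.repByAlgSpWith_qm aX @LocallyOfFinitePresentation
    (AlgStLib.isLocalOnBase_fppf_of_fpqc
      (AlgSpLib.isLocalOnBase_fpqc_locP_of_descendsAlong S @LocallyOfFinitePresentation)) ‹_›

theorem repByAlgSp1_diag_quotSt :
    AlgSt.RepByAlgSp1 (FibCat.diag (FibCat.toSelf (AlgSt.QuotSt Scheme.fppfPrecoverage G aX))) := by
  haveI : FibCat.IsFibGrpd (AlgSt.QuotSt Scheme.fppfPrecoverage G aX).p := isFibGrpd (aX := aX)
  exact AlgStLib.repByAlgSp1_diag_iff.mpr fun U x V y =>
    AlgStSetoidLib.repByAlgSp_fp_of_cover isStack_quotSt (AlgStLib.repByAlgSp_overCat X) _ (flat_qm aX) (lfp_qm aX)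
      (QuotStLib.repByAlgSpWith_qm_surjective aX) V U y x

theorem diag_affine_iff :
    AlgSt.RepByAlgSpWith AlgSp.IsAffineMor
        (FibCat.diag (FibCat.toSelf (AlgSt.QuotSt Scheme.fppfPrecoverage G aX))) ↔
      IsAffineHom (pullback.diagonal X.hom) := by
  haveI : FibCat.IsFibGrpd (AlgSt.QuotSt Scheme.fppfPrecoverage G aX).p := isFibGrpd (aX := aX)
  exact ⟨fun h => diagonal_affine_of_stack _ (affine_qm_fppf aX) h, fun h =>
    repByAlgSpWith_affine_diag (repByAlgSp1_diag_quotSt aX) h _ (flat_qm aX) (lfp_qm aX)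
      (QuotStLib.repByAlgSpWith_qm_surjective aX) (affine_qm_fppf aX)⟩

theorem diag_qaff [QuasiSeparated X.hom] :
    AlgSt.RepByAlgSpWith AlgSp.IsQuasiAffineMor
        (FibCat.diag (FibCat.toSelf (AlgSt.QuotSt Scheme.fppfPrecoverage G aX))) := by
  haveI : FibCat.IsFibGrpd (AlgSt.QuotSt Scheme.fppfPrecoverage G aX).p := isFibGrpd (aX := aX)
  exact repByAlgSpWith_qaff_diag (repByAlgSp1_diag_quotSt aX) _ (flat_qm aX) (lfp_qm aX)
      (QuotStLib.repByAlgSpWith_qm_surjective aX) (affine_qm_fppf aX)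

end QuotTransLib
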