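import Groth.Agent.QuotTransLib.Rep
import Groth.Prelude.Def_AlgSt5

/-!
# The quotient stack of schemes under an affine group
-/

set_option autoImplicit false
set_option linter.all false
set_option backward.isDefEq.respectTransparency false
set_option backward.isDefEq.respectTransparency.types false

universe u

open CategoryTheory CategoryTheory.Limits AlgebraicGeometry MonoidalCategory CartesianMonoidalCategory

namespace QuotTransLib

variable {S : Scheme.{u}} {G : Over S} [GrpObj G] {X : Over S} {aX : AlgGrp.Action G X}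

local notation "Q" => AlgSt.QuotObj.forget Scheme.fppfPrecoverage G aX
set_option quotPrecheck false in
local notation "Qs" => AlgSt.SpQuotObj.forget Scheme.fppfPrecoverage ((F S).obj G) (act aX)

theorem isHomLift_toSp {A B : AlgSt.QuotObj Scheme.fppfPrecoverage G aX} {U V : Over S} (f : U ⟶ V) (g : A ⟶ B)
    (h : (Q).IsHomLift f g) : (Qs).IsHomLift f (toSpHom g) :=
  IsHomLift.of_fac' _ _ _ (IsHomLift.domain_eq (Q) f g) (IsHomLift.codomain_eq (Q) f g)
    (IsHomLift.fac' (Q) f g)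

theorem isHomLift_of_toSp {A B : AlgSt.QuotObj Scheme.fppfPrecoverage G aX} {U V : Over S} (f : U ⟶ V) (g : A ⟶ B)
    (h : (Qs).IsHomLift f (toSpHom g)) : (Q).IsHomLift f g :=
  IsHomLift.of_fac' _ _ _ (IsHomLift.domain_eq (Qs) f (toSpHom g)) (IsHomLift.codomain_eq (Qs) f (toSpHom g))
    (IsHomLift.fac' (Qs) f (toSpHom g))

variable [IsAffineHom G.hom]

theorem isFibGrpd : FibCat.IsFibGrpd (Q) := by
  haveI hSp : FibCat.IsFibGrpd (Qs) := SpTorsLib.isFibGrpd_spQuotSt
  refine { exists_lift := ?_, isStronglyCartesian := ?_ }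
  · intro x V f
    obtain ⟨y, φ, hφ⟩ := hSp.exists_lift (x := toSp x) f
    obtain ⟨A₀, e, he⟩ := exists_obj y
    obtain ⟨g, hg⟩ := exists_hom (e.hom ≫ φ)
    haveI := hφ
    have hy : y.base = V := IsHomLift.domain_eq (Qs) f φ
    subst hy
    haveI := he
    exact ⟨A₀, g, isHomLift_of_toSp f g
      (hg ▸ IsHomLift.comp_lift_id_left' (Qs) y.base e.hom f φ)⟩
  · intro y x φ
    haveI := hSp.isStronglyCartesian (toSpHom φ)
    refine { toIsHomLift := IsHomLift.map (p := Q) φ, universal_property' := fun {a'} g φ' hφ' => ?_ }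
    haveI : (Qs).IsHomLift (g ≫ (Qs).map (toSpHom φ)) (toSpHom φ') := isHomLift_toSp _ _ hφ'
    obtain ⟨χ, ⟨hχ, hχ'⟩, huniq⟩ := Functor.IsStronglyCartesian.universal_property' (p := Qs)
      (f := (Qs).map (toSpHom φ)) (φ := toSpHom φ) (a' := toSp a') g (toSpHom φ')
    obtain ⟨k, rfl⟩ := exists_hom χ
    refine ⟨k, ⟨isHomLift_of_toSp _ _ hχ, (Φ _ aX).map_injective
      (((Φ _ aX).map_comp k φ).trans hχ')⟩, fun k' hk' => (Φ _ aX).map_injective
        (huniq (toSpHom k') ⟨isHomLift_toSp _ _ hk'.1, ?_⟩)⟩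
    exact ((Φ _ aX).map_comp k' φ).symm.trans (congrArg (Φ _ aX).map hk'.2)

variable {T : Over S} {R : Sieve T}

/-- The comparison as a based functor. -/
noncomputable def Φb : AlgSt.QuotSt Scheme.fppfPrecoverage G aX ⥤ᵇ
    AlgSt.SpQuotSt Scheme.fppfPrecoverage ((F S).obj G) (act aX) where
  toFunctor := Φ _ aX
  w := rfl

variable (hR : R ∈ AlgSp.J S T) (K : Stk.sieveCat R ⥤ᵇ AlgSt.QuotSt Scheme.fppfPrecoverage G aX)

include hR in
theorem nonempty_cocone : Nonempty (SpTorsLib.Cocone K) := by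
  obtain ⟨x, hx, l, hl, hln⟩ := SpTorsLib.nonempty_cocone hR (BasedFunctor.comp K Φb)
  obtain ⟨A₀, e, he⟩ := exists_obj x
  have hx' : x.base = T := hx
  subst hx'
  haveI := he
  haveI : (Qs).IsHomLift (𝟙 x.base) e.inv := IsHomLift.lift_id_inv (Qs) _ _
  choose g hg using fun a => exists_hom (A := K.obj a) (B := A₀) (l a ≫ e.inv)
  refine ⟨{ pt := A₀
            pt_base := IsHomLift.domain_eq (Qs) (𝟙 x.base) e.hom
            leg := g, leg_lift := fun a => ?_, leg_nat := fun a b m => (Φ _ aX).map_injective ?_ }⟩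
  · haveI := hl a
    exact isHomLift_of_toSp _ _ (hg a ▸ IsHomLift.comp_lift_id_right' (Qs) _ (l a) x.base e.inv)
  · refine ((Φ _ aX).map_comp (K.map m) (g b)).trans ?_
    change (Φ _ aX).map (K.map m) ≫ toSpHom (g b) = toSpHom (g a)
    rw [hg, hg, ← Category.assoc]
    exact congrArg (· ≫ e.inv) (hln a b m)

include hR in
theorem existsUnique_of_cocones (c c' : SpTorsLib.Cocone K) :
    ∃! n : c.pt ⟶ c'.pt, (Q).IsHomLift (𝟙 T) n ∧ ∀ a, c.leg a ≫ n = c'.leg a := by
  let mk : SpTorsLib.Cocone K → SpTorsLib.Cocone (BasedFunctor.comp K Φb) := fun d =>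
    { pt := toSp d.pt, pt_base := d.pt_base, leg := fun a => toSpHom (d.leg a)
      leg_lift := fun a => isHomLift_toSp _ _ (d.leg_lift a)
      leg_nat := fun a b m => ((Φ _ aX).map_comp (K.map m) (d.leg b)).symm.trans
        (congrArg (Φ _ aX).map (d.leg_nat a b m)) }
  obtain ⟨n', ⟨hn, hnf⟩, hu⟩ := SpTorsLib.existsUnique_of_cocones hR _ (mk c) (mk c')
  obtain ⟨n, rfl⟩ := exists_hom (A := c.pt) (B := c'.pt) n'
  refine ⟨n, ⟨isHomLift_of_toSp _ _ hn, fun a => (Φ _ aX).map_injective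
    (((Φ _ aX).map_comp (c.leg a) n).trans (hnf a))⟩, fun k hk => (Φ _ aX).map_injective
      (hu (toSpHom k) ⟨isHomLift_toSp _ _ hk.1, fun a => ?_⟩)⟩
  exact ((Φ _ aX).map_comp (c.leg a) k).symm.trans (congrArg (Φ _ aX).map (hk.2 a))

theorem isStack_quotSt : Stk.IsStack (AlgSp.J S) (AlgSt.QuotSt Scheme.fppfPrecoverage G aX) := by
  haveI : FibCat.IsFibGrpd (AlgSt.QuotSt Scheme.fppfPrecoverage G aX).p := isFibGrpd
  exact ⟨inferInstance, fun U R hR => SpTorsLib.isStackFor_of_initial (fun K => nonempty_cocone hR K)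
    (fun K c c' => existsUnique_of_cocones hR K c c')⟩

end QuotTransLib
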