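import Groth.Agent.QuotTransLib.Stack
import Groth.Agent.QuotStLib.MapRep
import Groth.Agent.AlgStSetoidLib.Etale
import Groth.Agent.SpTorsLib.ChartProps
import Groth.Agent.S0412
import Groth.Agent.S12793

/-!
# Étale torsors under a smooth affine group
-/

set_option autoImplicit false
set_option linter.all false
set_option backward.isDefEq.respectTransparency false
set_option backward.isDefEq.respectTransparency.types false

universe u

open CategoryTheory CategoryTheory.Limits AlgebraicGeometry MonoidalCategory CartesianMonoidalCategory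

namespace QuotTransLib

variable {S : Scheme.{u}} {G : Over S} [GrpObj G] {X : Over S}

variable (aX : AlgGrp.Action G X)

local notation "Et" => AlgSt.QuotSt Scheme.etalePrecoverage G aX
local notation "Fl" => AlgSt.QuotSt Scheme.fppfPrecoverage G aX

/-- An étale torsor as an fppf one. -/
def toFppf (A : AlgSt.QuotObj Scheme.etalePrecoverage G aX) : AlgSt.QuotObj Scheme.fppfPrecoverage G aX where
  base := A.base
  P := A.P
  act := A.act
  π := A.π
  cart := A.cart
  loc := by
    obtain ⟨R, hR, h⟩ := A.loc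
    exact ⟨R, BigSite.etalePrecoverage_le_fppfPrecoverage _ hR, h⟩
  φ := A.φ
  eqv := A.eqv

/-- The comparison functor. -/
def EF : Et ⥤ᵇ Fl where
  toFunctor :=
    { obj := toFppf aX
      map := fun {A B} f => ⟨f.base, f.top, f.eqv, f.cart, f.wφ⟩
      map_id := fun A => rfl
      map_comp := fun f g => rfl }
  w := rfl

instance : (EF aX).toFunctor.Faithful where
  map_injective {A B} f g h :=
    AlgSt.QuotObj.hom_ext (congrArg (fun k : toFppf aX A ⟶ toFppf aX B => k.base) h)
      (congrArg (fun k : toFppf aX A ⟶ toFppf aX B => k.top) h)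

instance : (EF aX).toFunctor.Full where
  map_surjective {A B} g := ⟨⟨g.base, g.top, g.eqv, g.cart, g.wφ⟩, rfl⟩

theorem smooth_torsor (hGs : Smooth G.hom) (A : AlgSt.QuotObj Scheme.fppfPrecoverage G aX) : Smooth A.π.left :=
  (AlgSpLib.locP_yon_map_iff _).1 (QuotStLib.locP_torsor @Smooth
    (AlgStLib.isLocalOnBase_fppf_of_fpqc (AlgSpLib.isLocalOnBase_fpqc_locP_of_descendsAlong S @Smooth)) hGs A)

theorem loc_etale (hGs : Smooth G.hom) (A : AlgSt.QuotObj Scheme.fppfPrecoverage G aX) :
    NonAbH1.IsLocallyTrivialFor Scheme.etalePrecoverage (Over.mk A.π.left : Over A.base.left) := by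
  haveI := smooth_torsor aX hGs A
  have hsurj : ∀ t : A.base.left, t ∈ Set.range A.π.left := fun t => by
    obtain ⟨V, v, σ, hσ, -, -, hv⟩ := QuotStLib.exists_sections A
    obtain ⟨q, hq⟩ := hv t
    exact ⟨(σ t).left q, by rw [← Scheme.Hom.comp_apply, ← Over.comp_left, hσ, hq]⟩
  choose T g t' hg ht h hh using fun t => Groth.Agent.S0412.result A.π.left t (hsurj t)
  refine ⟨Presieve.ofArrows T g, (Scheme.ofArrows_mem_precoverage_iff _).mpr ⟨fun t => ⟨t, t' t, ht t⟩, hg⟩, ?_⟩
  rintro T' f ⟨t⟩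
  exact ⟨h t, hh t⟩

theorem isEquivOver_EF (hGs : Smooth G.hom) : FibCat.IsEquivOver (EF aX) := by
  refine FibLib.isEquivOver_of_vertEssSurj _ fun A => ?_
  refine ⟨⟨A.base, A.P, A.act, A.π, A.cart, loc_etale aX hGs A, A.φ, A.eqv⟩, Iso.refl A, ?_⟩
  exact IsHomLift.id (p := AlgSt.QuotObj.forget Scheme.fppfPrecoverage G aX) rfl

theorem isStack_quotSt_etale [IsAffineHom G.hom] (hGs : Smooth G.hom) :
    Stk.IsStack (QuotSh.J Scheme.etalePrecoverage S) Et :=
  (Groth.Agent.S12793.result _ (EF aX) (isEquivOver_EF aX hGs)).mpr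
    (AlgStSetoidLib.isStack_et (isStack_quotSt (aX := aX)))

theorem locP_qm_etale (hGs : Smooth G.hom) :
    AlgSt.RepByAlgSpWith (AlgSp.LocP @Smooth) (QuotStLib.qm Scheme.etalePrecoverage aX) := by
  refine (AlgStLib.repByAlgSpWith_iff _ _).mpr fun T u =>
    ⟨_, _, AlgSp.IsAlgSpace.yon_obj _, QuotStLib.along_qm u, ?_⟩
  refine (AlgSpLib.locP_yon_map_iff _).2 ?_
  haveI := smooth_torsor aX hGs (toFppf aX (u.obj (QuotStLib.one (T := T))))
  haveI : IsIso ((eqToHom (QuotStLib.one_base u)).left) :=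
    inferInstanceAs (IsIso ((Over.forget S).map (eqToHom (QuotStLib.one_base u))))
  rw [Over.comp_left, MorphismProperty.cancel_right_of_respectsIso (@Smooth)]
  assumption

theorem surjective_qm_etale :
    AlgSt.RepByAlgSpWith AlgSp.IsSurjectiveMor (QuotStLib.qm Scheme.etalePrecoverage aX) := by
  refine (AlgStLib.repByAlgSpWith_iff _ _).mpr fun T u =>
    ⟨_, _, AlgSp.IsAlgSpace.yon_obj _, QuotStLib.along_qm u, ?_⟩
  intro z
  obtain ⟨w, hw⟩ := QuotStLib.isSurjectiveMor_torsor (toFppf aX (u.obj (QuotStLib.one (T := T))))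
    (AlgSp.Points.map ((AlgSp.yon S).map (eqToHom (QuotStLib.one_base u).symm)) z)
  refine ⟨w, ?_⟩
  rw [Functor.map_comp, AlgSp.Points.map_comp]
  change AlgSp.Points.map _ (AlgSp.Points.map ((AlgSp.yon S).map (toFppf aX (u.obj QuotStLib.one)).π) w) = z
  rw [hw, ← AlgSp.Points.map_comp, ← Functor.map_comp, eqToHom_trans, eqToHom_refl,
    CategoryTheory.Functor.map_id, AlgSp.Points.map_id]

theorem affine_torsor [IsAffineHom G.hom] (A : AlgSt.QuotObj Scheme.fppfPrecoverage G aX) : IsAffineHom A.π.left :=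
  (AlgSp.repWith_yon_map_iff _ _).1 (AlgSpLib.isAffineMor_iff.1 (isAffineMor_proj (toSp A)))

theorem affine_qm_etale [IsAffineHom G.hom] :
    AlgSt.RepByAlgSpWith AlgSp.IsAffineMor (QuotStLib.qm Scheme.etalePrecoverage aX) := by
  refine (AlgStLib.repByAlgSpWith_iff _ _).mpr fun T u =>
    ⟨_, _, AlgSp.IsAlgSpace.yon_obj _, QuotStLib.along_qm u, ?_⟩
  refine AlgSpLib.isAffineMor_iff.2 ((AlgSp.repWith_yon_map_iff _ _).2 ?_)
  haveI := affine_torsor aX (toFppf aX (u.obj (QuotStLib.one (T := T))))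
  haveI : IsIso ((eqToHom (QuotStLib.one_base u)).left) :=
    inferInstanceAs (IsIso ((Over.forget S).map (eqToHom (QuotStLib.one_base u))))
  rw [Over.comp_left, MorphismProperty.cancel_right_of_respectsIso (@IsAffineHom)]
  assumption

end QuotTransLib
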