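import Groth.Prelude
import Groth.Agent.SpTorsLib.Basic

/-!
# From schemes over `S` to sheaves over the terminal sheaf
-/

set_option autoImplicit false
set_option linter.all false
set_option backward.isDefEq.respectTransparency false
set_option backward.isDefEq.respectTransparency.types false

universe u

open CategoryTheory CategoryTheory.Limits MonoidalCategory CartesianMonoidalCategory AlgebraicGeometry
open scoped MonObj

namespace QuotTransLib

variable {S : Scheme.{u}}

/-- The terminal sheaf, as a representable one. -/
noncomputable abbrev base (S : Scheme.{u}) : AlgSp.Sp S := (AlgSp.yon S).obj (𝟙_ (Over S))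

/-- The functor `T ↦ h_T` into sheaves over the terminal one. -/
noncomputable def F (S : Scheme.{u}) : Over S ⥤ Over (base S) where
  obj T := Over.mk ((AlgSp.yon S).map (toUnit T))
  map {T T'} f := Over.homMk ((AlgSp.yon S).map f) (by
    change (AlgSp.yon S).map f ≫ (AlgSp.yon S).map (toUnit T') = (AlgSp.yon S).map (toUnit T)
    rw [← Functor.map_comp, toUnit_unique (f ≫ toUnit T') (toUnit T)])
  map_id T := Over.OverMorphism.ext ((AlgSp.yon S).map_id T)
  map_comp f g := Over.OverMorphism.ext ((AlgSp.yon S).map_comp f g)

theorem F_map_left {T T' : Over S} (f : T ⟶ T') : ((F S).map f).left = (AlgSp.yon S).map f := rfl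

theorem hom_base_ext {P : AlgSp.Sp S} (a b : P ⟶ base S) : a = b := by
  haveI : PreservesLimit (Functor.empty.{0} (Over S)) (AlgSp.yon S) := inferInstance
  exact (IsTerminal.isTerminalObj (AlgSp.yon S) (𝟙_ (Over S))
    (CartesianMonoidalCategory.isTerminalTensorUnit)).hom_ext a b

instance : (Over.forget (base S)).Full where
  map_surjective {X Y} f := ⟨Over.homMk f (hom_base_ext _ _), rfl⟩

/-- `F` followed by forgetting the base is `yon`. -/
noncomputable def forgetIso (S : Scheme.{u}) : F S ⋙ Over.forget (base S) ≅ AlgSp.yon S :=
  NatIso.ofComponents (fun T => Iso.refl _) (fun {X Y} f => by simp [F])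

instance : (F S).Full where
  map_surjective {T T'} g := by
    obtain ⟨f, hf⟩ := (AlgSp.yon S).map_surjective g.left
    exact ⟨f, Over.OverMorphism.ext hf⟩

instance : (F S).Faithful where
  map_injective {T T'} a b h :=
    (AlgSp.yon S).map_injective (congrArg CategoryTheory.CommaMorphism.left h)

instance : PreservesFiniteLimits (F S) where
  preservesFiniteLimits J _ _ := ⟨fun {K} => by
    haveI : PreservesLimit K (F S ⋙ Over.forget (base S)) := preservesLimit_of_natIso K (forgetIso S).symm
    exact preservesLimit_of_reflects_of_preserves (F S) (Over.forget (base S))⟩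

noncomputable instance : (F S).Monoidal := Functor.Monoidal.ofChosenFiniteProducts (F S)

noncomputable instance {G : Over S} [GrpObj G] : GrpObj ((F S).obj G) := Functor.grpObjObj (F := F S)

theorem isPullback_F {P X Y Z : Over S} {f : P ⟶ X} {g : P ⟶ Y} {h : X ⟶ Z} {k : Y ⟶ Z}
    (sq : IsPullback f g h k) : IsPullback ((F S).map f) ((F S).map g) ((F S).map h) ((F S).map k) :=
  sq.map (F S)

theorem isPullback_of_F {P X Y Z : Over S} {f : P ⟶ X} {g : P ⟶ Y} {h : X ⟶ Z} {k : Y ⟶ Z}
    (sq : IsPullback ((F S).map f) ((F S).map g) ((F S).map h) ((F S).map k)) : IsPullback f g h k :=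
  IsPullback.of_map (F S) ((F S).map_injective (by rw [Functor.map_comp, Functor.map_comp, sq.w])) sq

end QuotTransLib
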