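import Groth.Agent.QuotTransLib.Functor

/-!
# Scheme torsors as sheaf torsors
-/

set_option autoImplicit false
set_option linter.all false
set_option backward.isDefEq.respectTransparency false
set_option backward.isDefEq.respectTransparency.types false

universe u

open CategoryTheory CategoryTheory.Limits MonoidalCategory CartesianMonoidalCategory AlgebraicGeometry
open Functor.LaxMonoidal Functor.OplaxMonoidal

namespace QuotTransLib

variable {S : Scheme.{u}} {G : Over S} [GrpObj G]

theorem μ_F_snd (X : Over S) : μ (F S) G X ≫ (F S).map (snd G X) = snd ((F S).obj G) ((F S).obj X) :=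
  Functor.Monoidal.μ_snd (F S) G X

section Generic

variable {C D : Type*} [Category C] [CartesianMonoidalCategory C] [Category D] [CartesianMonoidalCategory D]
  (Fn : C ⥤ D) [Fn.Monoidal] (H : C) [GrpObj H]

attribute [local instance] Functor.grpObjObj

theorem one_act' {X : C} (a : H ⊗ X ⟶ X) (h : (MonObj.one (X := H) ▷ X) ≫ a = (λ_ X).hom) :
    (MonObj.one (X := Fn.obj H) ▷ Fn.obj X) ≫ μ Fn H X ≫ Fn.map a = (λ_ (Fn.obj X)).hom := by
  change ((ε Fn ≫ Fn.map (MonObj.one (X := H))) ▷ Fn.obj X) ≫ μ Fn H X ≫ Fn.map a = _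
  rw [comp_whiskerRight, Category.assoc, μ_natural_left_assoc, ← Functor.map_comp, h,
    Functor.LaxMonoidal.left_unitality]

theorem mul_act' {X : C} (a : H ⊗ X ⟶ X)
    (h : (MonObj.mul (X := H) ▷ X) ≫ a = (α_ H H X).hom ≫ (H ◁ a) ≫ a) :
    (MonObj.mul (X := Fn.obj H) ▷ Fn.obj X) ≫ μ Fn H X ≫ Fn.map a =
      (α_ (Fn.obj H) (Fn.obj H) (Fn.obj X)).hom ≫ (Fn.obj H ◁ (μ Fn H X ≫ Fn.map a)) ≫ μ Fn H X ≫ Fn.map a := by
  change ((μ Fn H H ≫ Fn.map (MonObj.mul (X := H))) ▷ Fn.obj X) ≫ μ Fn H X ≫ Fn.map a = _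
  rw [comp_whiskerRight, Category.assoc, μ_natural_left_assoc, ← Functor.map_comp, h,
    Functor.map_comp, Functor.map_comp, Functor.LaxMonoidal.associativity_assoc,
    MonoidalCategory.whiskerLeft_comp, Category.assoc, μ_natural_right_assoc]

end Generic

/-- The transported action. -/
noncomputable def act {X : Over S} (a : AlgGrp.Action G X) : AlgSp.GAction ((F S).obj G) ((F S).obj X) where
  act := μ (F S) G X ≫ (F S).map a.act
  one_act := one_act' (F S) G a.act a.one_act
  mul_act := mul_act' (F S) G a.act a.mul_act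

theorem act_act {X : Over S} (a : AlgGrp.Action G X) : (act a).act = μ (F S) G X ≫ (F S).map a.act := rfl

theorem isPullback_act {P T : Over S} {a : AlgGrp.Action G P} {π : P ⟶ T}
    (sq : IsPullback a.act (snd G P) π π) :
    IsPullback (act a).act (snd ((F S).obj G) ((F S).obj P)) ((F S).map π) ((F S).map π) :=
  (isPullback_F sq).of_iso (Functor.Monoidal.μIso (F S) G P).symm (Iso.refl _) (Iso.refl _) (Iso.refl _)
    (by simp [act_act]) (by simp) (by simp) (by simp)

theorem map_whisker {P P' : Over S} (f : P ⟶ P') :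
    ((F S).obj G ◁ (F S).map f) ≫ μ (F S) G P' = μ (F S) G P ≫ (F S).map (G ◁ f) :=
  μ_natural_right _ _ _

theorem eqv_iff {P P' : Over S} (a : AlgGrp.Action G P) (a' : AlgGrp.Action G P') (f : P ⟶ P') :
    (act a).act ≫ (F S).map f = ((F S).obj G ◁ (F S).map f) ≫ (act a').act ↔
      a.act ≫ f = (G ◁ f) ≫ a'.act := by
  rw [act_act, act_act, ← Category.assoc ((F S).obj G ◁ (F S).map f), map_whisker, Category.assoc, Category.assoc,
    ← Functor.map_comp, ← Functor.map_comp, cancel_epi]
  exact ⟨fun h => (F S).map_injective h, fun h => congrArg (F S).map h⟩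

variable {K : Precoverage Scheme.{u}} {X : Over S} {aX : AlgGrp.Action G X}

/-- A scheme torsor as a sheaf torsor. -/
noncomputable def toSp (A : AlgSt.QuotObj K G aX) : AlgSt.SpQuotObj K ((F S).obj G) (act aX) where
  base := A.base
  b := (AlgSp.yon S).map (toUnit A.base)
  P := (F S).obj A.P
  act := act A.act
  π := (F S).map A.π
  cart := isPullback_act A.cart
  loc := by
    obtain ⟨R, hR, hs⟩ := A.loc
    refine ⟨R, hR, fun T' f hf => ?_⟩
    obtain ⟨s, hs⟩ := hs f hf
    have hs' : s ≫ A.π.left = f := hs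
    let σ : Over.mk (f ≫ A.base.hom) ⟶ A.P :=
      Over.homMk s (by change s ≫ A.P.hom = f ≫ A.base.hom; rw [← hs', Category.assoc, Over.w])
    exact ⟨(AlgSp.yon S).map σ,
      ((AlgSp.yon S).map_comp σ A.π).symm.trans (congrArg (AlgSp.yon S).map (Over.OverMorphism.ext hs'))⟩
  φ := (F S).map A.φ
  eqv := (eqv_iff A.act aX A.φ).2 A.eqv

/-- A morphism of scheme torsors as one of sheaf torsors. -/
noncomputable def toSpHom {A B : AlgSt.QuotObj K G aX} (f : A ⟶ B) : toSp A ⟶ toSp B where
  base := f.base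
  wb := hom_base_ext _ _
  top := (F S).map f.top
  eqv := (eqv_iff A.act B.act f.top).2 f.eqv
  cart := isPullback_F f.cart
  wφ := by
    change (F S).map f.top ≫ (F S).map B.φ = (F S).map A.φ
    rw [← Functor.map_comp, f.wφ]

variable (K aX) in
/-- The comparison functor. -/
noncomputable def Φ : AlgSt.QuotObj K G aX ⥤ AlgSt.SpQuotObj K ((F S).obj G) (act aX) where
  obj := toSp
  map := toSpHom
  map_id A := AlgSt.SpQuotObj.hom_ext rfl ((F S).map_id A.P)
  map_comp f g := AlgSt.SpQuotObj.hom_ext rfl ((F S).map_comp f.top g.top)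

instance : (Φ K aX).Faithful where
  map_injective {A B} f g h := AlgSt.QuotObj.hom_ext (congrArg (fun k : toSp A ⟶ toSp B => k.base) h)
    ((F S).map_injective (congrArg (fun k : toSp A ⟶ toSp B => k.top) h))

/-- A morphism of sheaf torsors between scheme ones. -/
theorem exists_hom {A B : AlgSt.QuotObj K G aX} (g : toSp A ⟶ toSp B) : ∃ f : A ⟶ B, toSpHom f = g := by
  let t : A.P ⟶ B.P := (F S).preimage g.top
  have ht : (F S).map t = g.top := (F S).map_preimage _
  refine ⟨⟨g.base, t, (eqv_iff A.act B.act t).1 (ht ▸ g.eqv), isPullback_of_F ?_, (F S).map_injective ?_⟩,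
    AlgSt.SpQuotObj.hom_ext rfl ht⟩
  · rw [ht]; exact g.cart
  · rw [Functor.map_comp, ht]; exact g.wφ

instance : (Φ K aX).Full where
  map_surjective g := exists_hom g

end QuotTransLib
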