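import Groth.Agent.QuotTransLib.Obj
import Groth.Agent.SpTorsLib.Space
import Groth.Agent.AlgSpLib.AffineFpqc

/-!
# Sheaf torsors under affine groups are schemes
-/

set_option autoImplicit false
set_option linter.all false
set_option backward.isDefEq.respectTransparency false
set_option backward.isDefEq.respectTransparency.types false

universe u

open CategoryTheory CategoryTheory.Limits MonoidalCategory CartesianMonoidalCategory AlgebraicGeometry
open Functor.LaxMonoidal Functor.OplaxMonoidal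
open AlgSp

namespace QuotTransLib

variable {S : Scheme.{u}} {G : Over S} [GrpObj G]

section Generic

variable {C D : Type*} [Category C] [CartesianMonoidalCategory C] [Category D] [CartesianMonoidalCategory D]
  (Fn : C ⥤ D) [Fn.Monoidal] [Fn.Faithful] (H : C) [GrpObj H]

attribute [local instance] Functor.grpObjObj

theorem one_act_rev {X : C} (a : H ⊗ X ⟶ X)
    (h : (MonObj.one (X := Fn.obj H) ▷ Fn.obj X) ≫ μ Fn H X ≫ Fn.map a = (λ_ (Fn.obj X)).hom) :
    (MonObj.one (X := H) ▷ X) ≫ a = (λ_ X).hom := by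
  change ((ε Fn ≫ Fn.map (MonObj.one (X := H))) ▷ Fn.obj X) ≫ μ Fn H X ≫ Fn.map a = _ at h
  rw [comp_whiskerRight, Category.assoc, μ_natural_left_assoc, ← Functor.map_comp,
    Functor.LaxMonoidal.left_unitality, cancel_epi, cancel_epi] at h
  exact Fn.map_injective h

theorem mul_act_rev {X : C} (a : H ⊗ X ⟶ X)
    (h : (MonObj.mul (X := Fn.obj H) ▷ Fn.obj X) ≫ μ Fn H X ≫ Fn.map a =
      (α_ (Fn.obj H) (Fn.obj H) (Fn.obj X)).hom ≫ (Fn.obj H ◁ (μ Fn H X ≫ Fn.map a)) ≫ μ Fn H X ≫ Fn.map a) :
    (MonObj.mul (X := H) ▷ X) ≫ a = (α_ H H X).hom ≫ (H ◁ a) ≫ a := by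
  change ((μ Fn H H ≫ Fn.map (MonObj.mul (X := H))) ▷ Fn.obj X) ≫ μ Fn H X ≫ Fn.map a = _ at h
  rw [comp_whiskerRight, Category.assoc, μ_natural_left_assoc, ← Functor.map_comp,
    MonoidalCategory.whiskerLeft_comp, Category.assoc, μ_natural_right_assoc, ← Functor.map_comp,
    ← Functor.LaxMonoidal.associativity_assoc, ← Functor.map_comp, cancel_epi, cancel_epi] at h
  exact Fn.map_injective h

end Generic

variable {X : Over S} {aX : AlgGrp.Action G X}

theorem isAffineMor_trivial [IsAffineHom G.hom] {V : Over S} (b : (yon S).obj V ⟶ base S) :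
    IsAffineMor (snd ((F S).obj G) (Over.mk b)).left := by
  have hG : RepWith @IsAffineHom ((yon S).map (toUnit G)) :=
    (AlgSp.repWith_yon_map_iff _ _).2 (show IsAffineHom (toUnit G).left from
      (show (toUnit G).left = G.hom by simp) ▸ inferInstance)
  exact AlgSpLib.isAffineMor_iff.2 (AlgSpLib.repWith_of_isPullback
    (IsPullback.of_hasPullback ((F S).obj G).hom b) hG)

theorem isAffineMor_proj [IsAffineHom G.hom]
    (A : AlgSt.SpQuotObj Scheme.fppfPrecoverage ((F S).obj G) (act aX)) : IsAffineMor A.π.left := by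
  have hA : IsAlgSpace A.P.left :=
    SpTorsLib.isAlgSpace_torsor (IsAlgSpace.yon_obj _) (IsAlgSpace.yon_obj G) A
  obtain ⟨R, hR, hsec⟩ := A.loc
  choose Z f hf hflat hlfp hz using SpTorsLib.exists_points_cover (T := A.base) hR
  let V : A.base.left → Over S := fun z => Over.mk (f z ≫ A.base.hom)
  let c : ∀ z, V z ⟶ A.base := fun z => Over.homMk (f z)
  have hcov := SpTorsLib.isFppfCover_yon c hflat hlfp (fun z => ⟨z, hz z⟩)
  have hloc : ∀ z, ∃ (Q : Sp S) (q : Q ⟶ A.P.left) (r : Q ⟶ (yon S).obj (V z)),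
      IsPullback q r A.π.left ((yon S).map (c z)) ∧ IsAffineMor r := fun z => by
    obtain ⟨s, hs⟩ := hsec (f z) (hf z)
    obtain ⟨σ, -, h⟩ := SpTorsLib.isPullback_of_section A _ s hs
    exact ⟨_, _, _, SpTorsLib.isPullback_left h, isAffineMor_trivial _⟩
  choose Q q r sq hr using hloc
  exact AlgSpLib.isAffineMor_of_fpqc (IsAlgSpace.yon_obj _)
    (AlgSpLib.isFpqcCover_of_isFppfCover (IsAlgSpace.yon_obj _) (fun _ => IsAlgSpace.yon_obj _) hcov) hA sq hr

theorem exists_rep [IsAffineHom G.hom]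
    (A : AlgSt.SpQuotObj Scheme.fppfPrecoverage ((F S).obj G) (act aX)) :
    ∃ P₀ : Over S, Nonempty ((F S).obj P₀ ≅ A.P) := by
  obtain ⟨V, s, e, sq⟩ := AlgSpLib.representable_of_affine (isAffineMor_proj A)
    (𝟙 ((yon S).obj A.base) : (yon S).obj A.base ⟶ (yon S).obj A.base)
  haveI : IsIso e := sq.isIso_fst_of_isIso
  exact ⟨V, ⟨Over.isoMk (asIso e) (hom_base_ext _ _)⟩⟩

/-- Every sheaf torsor comes from a scheme torsor. -/
theorem exists_obj [IsAffineHom G.hom]
    (A : AlgSt.SpQuotObj Scheme.fppfPrecoverage ((F S).obj G) (act aX)) :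
    ∃ (A₀ : AlgSt.QuotObj Scheme.fppfPrecoverage G aX) (e : toSp A₀ ≅ A),
      (AlgSt.SpQuotObj.forget Scheme.fppfPrecoverage ((F S).obj G) (act aX)).IsHomLift (𝟙 A.base) e.hom := by
  obtain ⟨P₀, ⟨e⟩⟩ := exists_rep A
  let a : G ⊗ P₀ ⟶ P₀ := (F S).preimage
    (δ (F S) G P₀ ≫ ((F S).obj G ◁ e.hom) ≫ A.act.act ≫ e.inv)
  have ha : μ (F S) G P₀ ≫ (F S).map a = ((F S).obj G ◁ e.hom) ≫ A.act.act ≫ e.inv := by
    rw [Functor.map_preimage, Functor.Monoidal.μ_δ_assoc]
  let a₀ : AlgGrp.Action G P₀ :=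
    { act := a
      one_act := one_act_rev (F S) G a (by
        rw [ha, ← whisker_exchange_assoc, reassoc_of% A.act.one_act, leftUnitor_naturality_assoc, e.hom_inv_id,
          Category.comp_id])
      mul_act := mul_act_rev (F S) G a (by
        rw [ha]
        simp only [MonoidalCategory.whiskerLeft_comp, Category.assoc, whiskerLeft_inv_hom_assoc]
        rw [← whisker_exchange_assoc, reassoc_of% A.act.mul_act, associator_naturality_right_assoc]) }
  have hb : A.b = (yon S).map (toUnit A.base) := hom_base_ext _ _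
  let j : Over.mk A.b ≅ (F S).obj A.base := Over.isoMk (Iso.refl _) (hom_base_ext _ _)
  let π₀ : P₀ ⟶ A.base := (F S).preimage (e.hom ≫ A.π ≫ j.hom)
  have hπ : (F S).map π₀ = e.hom ≫ A.π ≫ j.hom := Functor.map_preimage _ _
  let φ₀ : P₀ ⟶ X := (F S).preimage (e.hom ≫ A.φ)
  have hφ : (F S).map φ₀ = e.hom ≫ A.φ := Functor.map_preimage _ _
  let A₀ : AlgSt.QuotObj Scheme.fppfPrecoverage G aX :=
    { base := A.base
      P := P₀
      act := a₀
      π := π₀
      cart := isPullback_of_F (A.cart.of_iso ((MonoidalCategory.whiskerLeftIso _ e.symm) ≪≫ Functor.Monoidal.μIso (F S) G P₀)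
        e.symm e.symm j
        (by
          change A.act.act ≫ e.inv = (((F S).obj G ◁ e.inv) ≫ μ (F S) G P₀) ≫ (F S).map a
          rw [Category.assoc, ha, whiskerLeft_inv_hom_assoc])
        (by
          change snd ((F S).obj G) A.P ≫ e.inv = (((F S).obj G ◁ e.inv) ≫ μ (F S) G P₀) ≫ (F S).map (snd G P₀)
          rw [Category.assoc, μ_F_snd, whiskerLeft_snd])
        (by rw [hπ]; simp) (by rw [hπ]; simp))
      loc := by
        obtain ⟨R, hR, hs⟩ := A.loc
        refine ⟨R, hR, fun T' f hf => ?_⟩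
        obtain ⟨s, hs⟩ := hs f hf
        obtain ⟨σ, hσ⟩ := (yon S).map_surjective (s ≫ e.inv.left)
        refine ⟨σ.left, ?_⟩
        have h2 : σ ≫ π₀ = Over.homMk f := (yon S).map_injective (by
          rw [Functor.map_comp, hσ, show (yon S).map π₀ = e.hom.left ≫ A.π.left ≫ j.hom.left from
              congrArg CategoryTheory.CommaMorphism.left hπ, Category.assoc]
          rw [show e.inv.left ≫ e.hom.left ≫ A.π.left ≫ j.hom.left = A.π.left from by
            rw [← Category.assoc, ← Over.comp_left, e.inv_hom_id]; exact (Category.id_comp _).trans (Category.comp_id _)]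
          exact hs)
        exact congrArg CategoryTheory.CommaMorphism.left h2
      φ := φ₀
      eqv := (eqv_iff a₀ aX φ₀).1 (by
        rw [hφ, MonoidalCategory.whiskerLeft_comp, Category.assoc, ← A.eqv,
          show (act a₀).act = μ (F S) G P₀ ≫ (F S).map a from rfl, ha]
        simp) }
  have eqvh : (toSp A₀).act.act ≫ e.hom = ((F S).obj G ◁ e.hom) ≫ A.act.act := by
    change (μ (F S) G P₀ ≫ (F S).map a) ≫ e.hom = _
    rw [ha]; simp
  let h : toSp A₀ ⟶ A :=
    { base := 𝟙 A.base
      wb := hom_base_ext _ _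
      top := e.hom
      eqv := eqvh
      cart := by
        haveI : IsIso (AlgSt.bHom (b := (yon S).map (toUnit A.base)) (b' := A.b) (𝟙 A.base) (hom_base_ext _ _)) := by
          rw [show AlgSt.bHom (b := (yon S).map (toUnit A.base)) (b' := A.b) (𝟙 A.base) (hom_base_ext _ _) = j.inv
            from Over.OverMorphism.ext ((yon S).map_id A.base)]
          infer_instance
        refine IsPullback.of_horiz_isIso ⟨?_⟩
        change e.hom ≫ A.π = (F S).map π₀ ≫ _
        rw [hπ]
        refine Over.OverMorphism.ext ?_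
        simp [j]
        exact congrArg (e.hom.left ≫ ·)
          (((congrArg (A.π.left ≫ ·) ((yon S).map_id A.base)).trans (Category.comp_id _)).symm)
      wφ := hφ.symm }
  let h' : A ⟶ toSp A₀ :=
    { base := 𝟙 A.base
      wb := hom_base_ext _ _
      top := e.inv
      eqv := by
        rw [← cancel_mono e.hom, Category.assoc, e.inv_hom_id, Category.comp_id, Category.assoc, eqvh,
          whiskerLeft_inv_hom_assoc]
      cart := by
        haveI : IsIso (AlgSt.bHom (b := A.b) (b' := (yon S).map (toUnit A.base)) (𝟙 A.base) (hom_base_ext _ _)) := by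
          rw [show AlgSt.bHom (b := A.b) (b' := (yon S).map (toUnit A.base)) (𝟙 A.base) (hom_base_ext _ _) = j.hom
            from Over.OverMorphism.ext ((yon S).map_id A.base)]
          infer_instance
        refine IsPullback.of_horiz_isIso ⟨?_⟩
        change e.inv ≫ (F S).map π₀ = A.π ≫ _
        rw [hπ, Iso.inv_hom_id_assoc]
        refine congrArg (A.π ≫ ·) (Over.OverMorphism.ext ?_)
        simp [j]
      wφ := by
        change e.inv ≫ (F S).map φ₀ = A.φ
        rw [hφ, Iso.inv_hom_id_assoc] }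
  refine ⟨A₀, ⟨h, h', AlgSt.SpQuotObj.hom_ext (Category.id_comp _) e.hom_inv_id,
    AlgSt.SpQuotObj.hom_ext (Category.id_comp _) e.inv_hom_id⟩, ?_⟩
  exact IsHomLift.of_fac' (AlgSt.SpQuotObj.forget Scheme.fppfPrecoverage ((F S).obj G) (act aX)) _ _ rfl rfl
    (show h.base = eqToHom rfl ≫ 𝟙 A.base ≫ eqToHom rfl by simp [h])

end QuotTransLib
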